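import Groth.Agent.ResProp.EF.K270.LocFin
import Groth.Agent.ResProp.EF.K743.Iface

/-!
# `K743.StmtGens` from helper270's local finiteness `K270.exists_frame_one`
-/

set_option autoImplicit false

universe u

open Groth.Agent.Grpsch.AffGrpd

namespace Groth.Agent.ResProp.EF.K394

/-- **C**: local finiteness -/
theorem stmtGens : K743.StmtGens.{u} := by
  intro A Γ _ _ G hA hs hft
  obtain ⟨n, x, c, hx0, hgen, -, -, hc⟩ := K270.exists_frame_one G hs hft ∅
  refine ⟨{ n := n + 1, x := x, c := c, j0 := 0, hx0 := hx0, gen := ?_, hc := hc }⟩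
  exact hgen _ (fun a => Subring.subset_closure (Or.inl ⟨a, rfl⟩))
    (fun j => Subring.subset_closure (Or.inr ⟨j, rfl⟩))

end Groth.Agent.ResProp.EF.K394
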