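import Groth.Agent.ResProp.EF.K743.Trans
import Groth.Agent.ResProp.EF.K111.Univ

/-!
# `K743.StmtThetaInv`: the invariant functions are invariant

Over a point `(y, γ, l₁, l₂)` of the universal ring of frames the coordinates are `Q₁ j = l₁ v_j(γ)`,
`Q₂ J = l₂ v_J(γ)`, where `v_j(γ)` is the coordinate vector of the function `h' ↦ x_j (h' γ⁻¹)`.
-/

set_option autoImplicit false

universe u

open Groth.Agent.Grpsch.AffGrpd

namespace Groth.Agent.ResProp.EF.K394

open K743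

section grpd

variable {A Γ : Type u} [CommRing A] [CommRing Γ] {G : RGrpd A Γ}

theorem comp_comp_i {T : Type u} [CommRing T] (α β : Γ →+* T) (h : α.comp G.s = β.comp G.t)
    (h' : (G.comp α β h).comp G.s = (β.comp G.i).comp G.t) : G.comp (G.comp α β h) (β.comp G.i) h' = α := by
  rw [G.assoc α β (β.comp G.i) h (by rw [RingHom.comp_assoc, G.i_t])]
  have : ∀ (δ : Γ →+* T) (hδ : α.comp G.s = δ.comp G.t), δ = (α.comp G.s).comp G.e → G.comp α δ hδ = α := by
    rintro δ hδ rfl; exact G.comp_e α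
  apply this
  rw [G.comp_i, h]

theorem comp_i_comp {T : Type u} [CommRing T] (α β : Γ →+* T) (h : α.comp G.s = (β.comp G.i).comp G.t)
    (h' : (G.comp α (β.comp G.i) h).comp G.s = β.comp G.t) : G.comp (G.comp α (β.comp G.i) h) β h' = α := by
  rw [G.assoc α (β.comp G.i) β h (by rw [RingHom.comp_assoc, G.i_s])]
  have : ∀ (δ : Γ →+* T) (hδ : α.comp G.s = δ.comp G.t), δ = (α.comp G.s).comp G.e → G.comp α δ hδ = α := by
    rintro δ hδ rfl; exact G.comp_e α
  apply this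
  rw [G.i_comp, h, RingHom.comp_assoc G.t G.i β, G.i_t]

end grpd

section pt

variable {A Γ : Type u} [CommRing A] [CommRing Γ] {G : RGrpd A Γ} {X : Gens G} {m : ℕ} {K : Type u} [Field K]
  {x : A →+* K} (P : PtData G X m x)

/-- the coordinate vector of `h' ↦ x_j (h' γ⁻¹)` -/
def vv {T : Type u} [CommRing T] (y : K →+* T) (γ : Γ →+* T) (j : Fin X.n) (a : Fin P.r₁) : T :=
  ∑ k, γ (G.i (X.c k j)) * y (P.V₁ k a)

/-- the coordinate vector of `h' ↦ x^J (h' γ⁻¹)` -/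
def v2 {T : Type u} [CommRing T] (y : K →+* T) (γ : Γ →+* T) (J : Fin m → Fin X.n) (b : Fin P.r₂) : T :=
  ∑ κ : Fin m → Fin P.r₁, (∏ i, vv P y γ (J i) (κ i)) * y (P.μ₀ κ b)

theorem map_vv {T T' : Type u} [CommRing T] [CommRing T'] (f : T →+* T') (y : K →+* T) (γ : Γ →+* T) (j : Fin X.n)
    (a : Fin P.r₁) : f (vv P y γ j a) = vv P (f.comp y) (f.comp γ) j a := by
  simp only [vv, map_sum, map_mul, RingHom.comp_apply]

theorem map_v2 {T T' : Type u} [CommRing T] [CommRing T'] (f : T →+* T') (y : K →+* T) (γ : Γ →+* T)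
    (J : Fin m → Fin X.n) (b : Fin P.r₂) : f (v2 P y γ J b) = v2 P (f.comp y) (f.comp γ) J b := by
  simp only [v2, map_sum, map_mul, map_prod, map_vv, RingHom.comp_apply]

theorem ext1 {T : Type u} [CommRing T] (y : K →+* T) (d d' : Fin P.r₁ → T)
    (H : ∀ {T' : Type u} [CommRing T'] (f : T →+* T') (h : Γ →+* T') (e : h.comp G.s = (f.comp y).comp x),
      ∑ a, P.w₁ (f.comp y) h e a * f (d a) = ∑ a, P.w₁ (f.comp y) h e a * f (d' a)) : d = d' := by
  rw [← sub_eq_zero]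
  apply P.inj₁ y
  intro T' _ f h e
  simp only [Pi.sub_apply, map_sub, mul_sub, Finset.sum_sub_distrib]
  rw [H f h e, sub_self]

theorem ext2 {T : Type u} [CommRing T] (y : K →+* T) (d d' : Fin P.r₂ → T)
    (H : ∀ {T' : Type u} [CommRing T'] (f : T →+* T') (h : Γ →+* T') (e : h.comp G.s = (f.comp y).comp x),
      ∑ a, P.w₂ (f.comp y) h e a * f (d a) = ∑ a, P.w₂ (f.comp y) h e a * f (d' a)) : d = d' := by
  rw [← sub_eq_zero]
  apply P.inj₂ y
  intro T' _ f h e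
  simp only [Pi.sub_apply, map_sub, mul_sub, Finset.sum_sub_distrib]
  rw [H f h e, sub_self]

theorem S1 {T : Type u} [CommRing T] (y : K →+* T) (h γ δ : Γ →+* T) (e : h.comp G.s = γ.comp G.t)
    (hδ : G.comp h γ e = δ) (eδ : δ.comp G.s = y.comp x) (j : Fin X.n) :
    h (X.x j) = ∑ a, P.w₁ y δ eδ a * vv P y γ j a := by
  have e1 : (G.comp h γ e).comp G.s = (γ.comp G.i).comp G.t := by
    rw [G.comp_s, RingHom.comp_assoc, G.i_t]
  have h1 : h (X.x j) = ∑ k, (G.comp h γ e) (X.x k) * (γ.comp G.i) (X.c k j) := by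
    rw [← X.hc (G.comp h γ e) (γ.comp G.i) e1 j, comp_comp_i]
  rw [h1]
  subst hδ
  simp only [vv, Finset.mul_sum]
  rw [Finset.sum_comm]
  refine Finset.sum_congr rfl fun k _ => ?_
  rw [P.hw₁ y (G.comp h γ e) eδ k, Finset.sum_mul]
  refine Finset.sum_congr rfl fun a _ => ?_
  rw [RingHom.comp_apply]
  ring

theorem S2 {T : Type u} [CommRing T] (y : K →+* T) (h γ δ : Γ →+* T) (e : h.comp G.s = γ.comp G.t)
    (hδ : G.comp h γ e = δ) (eδ : δ.comp G.s = y.comp x) (J : Fin m → Fin X.n) :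
    h (X.mon J) = ∑ b, P.w₂ y δ eδ b * v2 P y γ J b := by
  rw [Gens.mon, map_prod]
  rw [Finset.prod_congr rfl fun i _ => S1 P y h γ δ e hδ eδ (J i)]
  rw [Finset.prod_univ_sum]
  simp only [Fintype.piFinset_univ, v2, Finset.mul_sum]
  rw [Finset.sum_comm]
  refine Finset.sum_congr rfl fun κ _ => ?_
  rw [Finset.prod_mul_distrib, P.hμ y δ eδ κ, Finset.sum_mul]
  refine Finset.sum_congr rfl fun b _ => ?_
  ring

/-- multiplicativity -/
theorem vv_comp {T : Type u} [CommRing T] (y : K →+* T) (h γ : Γ →+* T) (e : h.comp G.s = γ.comp G.t)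
    (eγ : γ.comp G.s = y.comp x) (j : Fin X.n) (a : Fin P.r₁) :
    vv P y (G.comp h γ e) j a = ∑ k, h (G.i (X.c k j)) * vv P y γ k a := by
  refine congrFun (ext1 P y (vv P y (G.comp h γ e) j) (fun a => ∑ k, h (G.i (X.c k j)) * vv P y γ k a) ?_) a
  intro T' _ f h'' e''
  have E1 : h''.comp G.s = ((f.comp γ).comp G.i).comp G.t := by
    rw [e'', RingHom.comp_assoc G.t G.i (f.comp γ), G.i_t, RingHom.comp_assoc G.s γ f, eγ, RingHom.comp_assoc]
  set h1 : Γ →+* T' := G.comp h'' ((f.comp γ).comp G.i) E1 with hh1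
  have E2 : h1.comp G.s = (f.comp γ).comp G.t := by
    rw [hh1, G.comp_s, RingHom.comp_assoc, G.i_s]
  have E3 : (f.comp h).comp G.s = (f.comp γ).comp G.t := by rw [RingHom.comp_assoc, e, RingHom.comp_assoc]
  have E4 : h1.comp G.s = ((f.comp h).comp G.i).comp G.t := by
    rw [E2, RingHom.comp_assoc G.t G.i (f.comp h), G.i_t, E3]
  set h0 : Γ →+* T' := G.comp h1 ((f.comp h).comp G.i) E4 with hh0
  have E5 : h0.comp G.s = (f.comp h).comp G.t := by
    rw [hh0, G.comp_s, RingHom.comp_assoc, G.i_s]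
  have E6 : h0.comp G.s = (G.comp (f.comp h) (f.comp γ) E3).comp G.t := by rw [G.comp_t, E5]
  have F1 : G.comp h1 (f.comp γ) E2 = h'' := comp_i_comp _ _ _ _
  have F2 : G.comp h0 (f.comp h) E5 = h1 := comp_i_comp _ _ _ _
  have F3 : G.comp h0 (G.comp (f.comp h) (f.comp γ) E3) E6 = h'' := by
    rw [← G.assoc h0 (f.comp h) (f.comp γ) E5 E3]
    have : ∀ (δ : Γ →+* T') (hδ : δ.comp G.s = (f.comp γ).comp G.t), δ = h1 → G.comp δ (f.comp γ) hδ = h'' := by
      rintro δ hδ rfl; exact F1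
    exact this _ _ F2
  have G1 := S1 P (f.comp y) h0 (G.comp (f.comp h) (f.comp γ) E3) h'' E6 F3 e'' j
  have G2 := fun k => S1 P (f.comp y) h1 (f.comp γ) h'' E2 F1 e'' k
  have G3 := X.hc h1 ((f.comp h).comp G.i) E4 j
  have L1 : ∀ a, f (vv P y (G.comp h γ e) j a) = vv P (f.comp y) (G.comp (f.comp h) (f.comp γ) E3) j a := by
    intro a
    rw [map_vv]
    congr 1
    exact G.comp_nat f h γ e
  simp only [L1]
  rw [← G1]
  change h0 (X.x j) = _ at G3
  rw [G3]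
  simp only [map_sum, map_mul, map_vv, Finset.mul_sum]
  rw [Finset.sum_comm]
  refine Finset.sum_congr rfl fun k _ => ?_
  rw [G2 k, Finset.sum_mul]
  refine Finset.sum_congr rfl fun a _ => ?_
  simp only [RingHom.comp_apply]
  ring

theorem vv_j0 {T : Type u} [CommRing T] (y : K →+* T) (γ γ' : Γ →+* T)
    (eγ : γ.comp G.s = y.comp x) (eγ' : γ'.comp G.s = y.comp x) (a : Fin P.r₁) :
    vv P y γ X.j0 a = vv P y γ' X.j0 a := by
  have key : ∀ (γ : Γ →+* T) (_ : γ.comp G.s = y.comp x) {T' : Type u} [CommRing T'] (f : T →+* T') (h : Γ →+* T')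
      (e : h.comp G.s = (f.comp y).comp x), ∑ a, P.w₁ (f.comp y) h e a * f (vv P y γ X.j0 a) = 1 := by
    intro γ eγ T' _ f h'' e''
    have E1 : h''.comp G.s = ((f.comp γ).comp G.i).comp G.t := by
      rw [e'', RingHom.comp_assoc G.t G.i (f.comp γ), G.i_t, RingHom.comp_assoc G.s γ f, eγ, RingHom.comp_assoc]
    have E2 : (G.comp h'' ((f.comp γ).comp G.i) E1).comp G.s = (f.comp γ).comp G.t := by
      rw [G.comp_s, RingHom.comp_assoc, G.i_s]
    have := S1 P (f.comp y) _ (f.comp γ) h'' E2 (comp_i_comp _ _ _ _) e'' X.j0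
    rw [X.hx0, map_one] at this
    rw [this]
    refine Finset.sum_congr rfl fun a _ => ?_
    rw [map_vv]
  exact congrFun (ext1 P y (vv P y γ X.j0) (vv P y γ' X.j0) fun f h e => by rw [key γ eγ f h e, key γ' eγ' f h e]) a

/-- the pairing of a `B`-combination of the `v2` with an arrow -/
theorem pair2 {T : Type u} [CommRing T] (y : K →+* T) (γ : Γ →+* T) (eγ : γ.comp G.s = y.comp x)
    (F : (Fin m → Fin X.n) → A) (g : Γ) (hg : g = ∑ J, G.s (F J) * X.mon J)
    {T' : Type u} [CommRing T'] (f : T →+* T') (h'' : Γ →+* T') (e'' : h''.comp G.s = (f.comp y).comp x)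
    (E1 : h''.comp G.s = ((f.comp γ).comp G.i).comp G.t) :
    ∑ b, P.w₂ (f.comp y) h'' e'' b * f (∑ J, γ (G.t (F J)) * v2 P y γ J b) =
      (G.comp h'' ((f.comp γ).comp G.i) E1) g := by
  have E2 : (G.comp h'' ((f.comp γ).comp G.i) E1).comp G.s = (f.comp γ).comp G.t := by
    rw [G.comp_s, RingHom.comp_assoc, G.i_s]
  rw [hg, map_sum]
  simp only [map_sum, map_mul, map_v2, Finset.mul_sum]
  rw [Finset.sum_comm]
  refine Finset.sum_congr rfl fun J _ => ?_
  rw [S2 P (f.comp y) _ (f.comp γ) h'' E2 (comp_i_comp _ _ _ _) e'' J, Finset.mul_sum]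
  refine Finset.sum_congr rfl fun b _ => ?_
  have : (G.comp h'' ((f.comp γ).comp G.i) E1) (G.s (F J)) = f (γ (G.t (F J))) := by
    rw [← RingHom.comp_apply, E2]; rfl
  rw [this]
  ring

theorem E1_of {T : Type u} [CommRing T] {y : K →+* T} {γ : Γ →+* T} (eγ : γ.comp G.s = y.comp x)
    {T' : Type u} [CommRing T'] (f : T →+* T') (h'' : Γ →+* T') (e'' : h''.comp G.s = (f.comp y).comp x) :
    h''.comp G.s = ((f.comp γ).comp G.i).comp G.t := by
  rw [e'', RingHom.comp_assoc G.t G.i (f.comp γ), G.i_t, RingHom.comp_assoc G.s γ f, eγ, RingHom.comp_assoc]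

/-- first invariants -/
theorem inv_t {T : Type u} [CommRing T] (y : K →+* T) (γ γ' : Γ →+* T) (eγ : γ.comp G.s = y.comp x)
    (eγ' : γ'.comp G.s = y.comp x) (F : (Fin m → Fin X.n) → A) (u : A) (hF : G.t u = ∑ J, G.s (F J) * X.mon J)
    (b : Fin P.r₂) :
    ∑ J, γ (G.t (F J)) * v2 P y γ J b = ∑ J, γ' (G.t (F J)) * v2 P y γ' J b := by
  refine congrFun (ext2 P y (fun b => ∑ J, γ (G.t (F J)) * v2 P y γ J b)
    (fun b => ∑ J, γ' (G.t (F J)) * v2 P y γ' J b) ?_) b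
  intro T' _ f h'' e''
  rw [pair2 P y γ eγ F _ hF f h'' e'' (E1_of eγ f h'' e''), pair2 P y γ' eγ' F _ hF f h'' e'' (E1_of eγ' f h'' e''),
    ← RingHom.comp_apply, ← RingHom.comp_apply, G.comp_t, G.comp_t]

/-- second invariants -/
theorem inv_i {T : Type u} [CommRing T] (y : K →+* T) (γ γ' : Γ →+* T) (eγ : γ.comp G.s = y.comp x)
    (eγ' : γ'.comp G.s = y.comp x) (j : Fin X.n) (F : Fin X.n → (Fin m → Fin X.n) → A)
    (hF : ∀ k, G.i (X.c k j) = ∑ J, G.s (F k J) * X.mon J)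
    (a : Fin P.r₁) (b : Fin P.r₂) :
    ∑ k, ∑ J, γ (G.t (F k J)) * vv P y γ k a * v2 P y γ J b =
      ∑ k, ∑ J, γ' (G.t (F k J)) * vv P y γ' k a * v2 P y γ' J b := by
  have key : ∀ (γ : Γ →+* T) (_ : γ.comp G.s = y.comp x) {T' : Type u} [CommRing T'] (f : T →+* T') (h : Γ →+* T')
      (e : h.comp G.s = (f.comp y).comp x),
      ∑ b, P.w₂ (f.comp y) h e b * f (∑ k, ∑ J, γ (G.t (F k J)) * vv P y γ k a * v2 P y γ J b) =
        vv P (f.comp y) h j a := by
    intro γ eγ T' _ f h e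
    have E1 := E1_of eγ f h e
    have E2 : (G.comp h ((f.comp γ).comp G.i) E1).comp G.s = (f.comp γ).comp G.t := by
      rw [G.comp_s, RingHom.comp_assoc, G.i_s]
    have E3 : (f.comp γ).comp G.s = (f.comp y).comp x := by rw [RingHom.comp_assoc, eγ, RingHom.comp_assoc]
    have h1 : ∀ b, f (∑ k, ∑ J, γ (G.t (F k J)) * vv P y γ k a * v2 P y γ J b) =
        ∑ k, f (vv P y γ k a) * f (∑ J, γ (G.t (F k J)) * v2 P y γ J b) := by
      intro b
      rw [map_sum]
      refine Finset.sum_congr rfl fun k _ => ?_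
      rw [← map_mul, Finset.mul_sum]
      congr 1
      refine Finset.sum_congr rfl fun J _ => ?_
      ring
    simp only [h1, Finset.mul_sum]
    rw [Finset.sum_comm]
    have h2 := vv_comp P (f.comp y) _ (f.comp γ) E2 E3 j a
    have h3 : G.comp (G.comp h ((f.comp γ).comp G.i) E1) (f.comp γ) E2 = h := comp_i_comp _ _ _ _
    rw [h3] at h2
    rw [h2]
    refine Finset.sum_congr rfl fun k _ => ?_
    rw [← pair2 P y γ eγ (F k) _ (hF k) f h e E1, Finset.sum_mul]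
    refine Finset.sum_congr rfl fun b _ => ?_
    rw [map_vv]
    ring
  exact congrFun (ext2 P y (fun b => ∑ k, ∑ J, γ (G.t (F k J)) * vv P y γ k a * v2 P y γ J b)
    (fun b => ∑ k, ∑ J, γ' (G.t (F k J)) * vv P y γ' k a * v2 P y γ' J b)
    fun f h e => by rw [key γ eγ f h e, key γ' eγ' f h e]) b

end pt

/-- the formula for `Q₂` -/
theorem Q2form {T : Type u} [CommRing T] {n m r₁ r₂ : ℕ} (l₁ l₁' : Matrix (Fin r₁) (Fin r₁) T) (h : l₁' * l₁ = 1)
    (l₂ : Matrix (Fin r₂) (Fin r₂) T) (v : Fin n → Fin r₁ → T) (μ0 : (Fin m → Fin r₁) → Fin r₂ → T)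
    (Q : Fin n → Fin r₁ → T) (hQ : ∀ j a, Q j a = ∑ a', l₁ a a' * v j a') (μ : (Fin m → Fin r₁) → Fin r₂ → T)
    (hμ : ∀ κ b, μ κ b = ∑ b', ∑ κ' : Fin m → Fin r₁, l₂ b b' * μ0 κ' b' * ∏ i, l₁' (κ' i) (κ i))
    (J : Fin m → Fin n) (b : Fin r₂) :
    ∑ κ : Fin m → Fin r₁, (∏ i, Q (J i) (κ i)) * μ κ b =
      ∑ b', l₂ b b' * ∑ κ' : Fin m → Fin r₁, (∏ i, v (J i) (κ' i)) * μ0 κ' b' := by
  have h1 : ∀ j c, ∑ a, l₁' c a * Q j a = v j c := by
    intro j c
    have h2 : Q j = l₁.mulVec (v j) := by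
      funext a; rw [hQ]; rfl
    have h3 : l₁'.mulVec (Q j) = v j := by rw [h2, Matrix.mulVec_mulVec, h, Matrix.one_mulVec]
    exact congrFun h3 c
  have h4 : ∀ κ' : Fin m → Fin r₁, ∏ i, v (J i) (κ' i) =
      ∑ κ : Fin m → Fin r₁, (∏ i, l₁' (κ' i) (κ i)) * ∏ i, Q (J i) (κ i) := by
    intro κ'
    rw [Finset.prod_congr rfl fun i _ => (h1 (J i) (κ' i)).symm, Finset.prod_univ_sum]
    simp only [Fintype.piFinset_univ, Finset.prod_mul_distrib]
  simp only [h4, hμ, Finset.mul_sum, Finset.sum_mul]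
  rw [Finset.sum_comm]
  refine Finset.sum_congr rfl fun b' _ => ?_
  rw [Finset.sum_comm]
  refine Finset.sum_congr rfl fun κ' _ => ?_
  refine Finset.sum_congr rfl fun κ _ => ?_
  ring

section core

variable {A Γ : Type u} [CommRing A] [CommRing Γ] {G : RGrpd A Γ} {X : Gens G} {m : ℕ} {K : Type u} [Field K]
  {x : A →+* K} (P : PtData G X m x) (R : LRing G x P.r₁ P.r₂)

theorem Q₁L_eq {T : Type u} [CommRing T] (Φ : R.L →+* T) (j : Fin X.n) (a : Fin P.r₁) :
    Φ (LRing.Q₁L P R j a) = ∑ a', Φ (R.l₁.1 a a') * vv P (Φ.comp R.y) (Φ.comp R.γ) j a' := by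
  simp only [LRing.Q₁L, vv, map_sum, map_mul, Finset.mul_sum, RingHom.comp_apply]
  rw [Finset.sum_comm]
  refine Finset.sum_congr rfl fun a' _ => Finset.sum_congr rfl fun k _ => ?_
  ring

/-- values on `Q₂` -/
theorem Q2_eq {T : Type u} [CommRing T] (Φ : R.L →+* T) (γ : Γ →+* T) (ψ : (LRing.frameData P R).D →+* T)
    (hQ : ∀ j a, ψ ((LRing.frameData P R).Q₁ j a) = ∑ a', Φ (R.l₁.1 a a') * vv P (Φ.comp R.y) γ j a')
    (hμ : ∀ κ b, ψ ((LRing.frameData P R).μ κ b) = Φ (LRing.μL P R κ b)) (J : Fin m → Fin X.n)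
    (b : Fin P.r₂) : ψ ((LRing.frameData P R).Q₂ J b) = ∑ b', Φ (R.l₂.1 b b') * v2 P (Φ.comp R.y) γ J b' := by
  have h0 : ((R.l₁⁻¹).1.map Φ) * (R.l₁.1.map Φ) = 1 := by
    rw [← Matrix.map_mul, ← Units.val_mul, inv_mul_cancel, Units.val_one, Matrix.map_one _ (map_zero _) (map_one _)]
  have := Q2form (R.l₁.1.map Φ) ((R.l₁⁻¹).1.map Φ) h0 (R.l₂.1.map Φ) (vv P (Φ.comp R.y) γ)
    (fun κ b => Φ (R.y (P.μ₀ κ b))) (fun j a => ψ ((LRing.frameData P R).Q₁ j a)) hQ
    (fun κ b => ψ ((LRing.frameData P R).μ κ b))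
    (fun κ b => by
      rw [hμ]
      simp only [LRing.μL, map_sum, map_mul, map_prod]
      rfl) J b
  rw [FrameData.Q₂, map_sum]
  simp only [map_mul, map_prod]
  exact this

/-- values of the action -/
structure Moves {T : Type u} [CommRing T] (σ : Γ →+* T) (φ ψ : (LRing.frameData P R).D →+* T) : Prop where
  src : σ.comp G.s = φ.comp (LRing.frameData P R).ι
  ι : ψ.comp (LRing.frameData P R).ι = σ.comp G.t
  Q₁ : ∀ j a, ψ ((LRing.frameData P R).Q₁ j a) = ∑ k, σ (G.i (X.c k j)) * φ ((LRing.frameData P R).Q₁ k a)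
  μ : ∀ κ b, ψ ((LRing.frameData P R).μ κ b) = φ ((LRing.frameData P R).μ κ b)

/-- equality of the invariants -/
structure InvEq (q : ℕ) (xx : Fin q → A) (tx : Fin q → (Fin m → Fin X.n) → A)
    (ig : Fin X.n → Fin X.n → (Fin m → Fin X.n) → A) {T : Type u} [CommRing T]
    (φ ψ : (LRing.frameData P R).D →+* T) : Prop where
  one : ∀ a, ψ ((LRing.frameData P R).Q₁ X.j0 a) = φ ((LRing.frameData P R).Q₁ X.j0 a)
  tx : ∀ l b, ψ (∑ J, (LRing.frameData P R).ι (tx l J) * (LRing.frameData P R).Q₂ J b) =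
    φ (∑ J, (LRing.frameData P R).ι (tx l J) * (LRing.frameData P R).Q₂ J b)
  ig : ∀ j a b, ψ (∑ k, ∑ J, (LRing.frameData P R).ι (ig k j J) * (LRing.frameData P R).Q₁ k a *
      (LRing.frameData P R).Q₂ J b) =
    φ (∑ k, ∑ J, (LRing.frameData P R).ι (ig k j J) * (LRing.frameData P R).Q₁ k a * (LRing.frameData P R).Q₂ J b)

/-- the identities on points of `L` -/
theorem core (q : ℕ) (xx : Fin q → A) (tx : Fin q → (Fin m → Fin X.n) → A)
    (ig : Fin X.n → Fin X.n → (Fin m → Fin X.n) → A) (htx : ∀ l, G.t (xx l) = ∑ J, G.s (tx l J) * X.mon J)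
    (hig : ∀ k j, G.i (X.c k j) = ∑ J, G.s (ig k j J) * X.mon J) {T : Type u} [CommRing T] (σ : Γ →+* T)
    (Φ : R.L →+* T) (ψ : (LRing.frameData P R).D →+* T) (hm : Moves P R σ (Φ.comp (LRing.DL P R).subtype) ψ) :
    InvEq P R q xx tx ig (Φ.comp (LRing.DL P R).subtype) ψ := by
  set φ : (LRing.frameData P R).D →+* T := Φ.comp (LRing.DL P R).subtype with hφ
  set y := Φ.comp R.y with hy
  set γ := Φ.comp R.γ with hγ
  have eγ : γ.comp G.s = y.comp x := by
    rw [hγ, RingHom.comp_assoc, R.hγ, hy, RingHom.comp_assoc]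
  have eσ : σ.comp G.s = γ.comp G.t := hm.src
  set γ' : Γ →+* T := G.comp σ γ eσ with hγ'
  have eγ' : γ'.comp G.s = y.comp x := by rw [hγ', G.comp_s, eγ]
  have q1 : ∀ j a, φ ((LRing.frameData P R).Q₁ j a) = ∑ a', Φ (R.l₁.1 a a') * vv P y γ j a' :=
    fun j a => Q₁L_eq P R Φ j a
  have q1' : ∀ j a, ψ ((LRing.frameData P R).Q₁ j a) = ∑ a', Φ (R.l₁.1 a a') * vv P y γ' j a' := by
    intro j a
    rw [hm.Q₁]
    simp only [q1, hγ', vv_comp P y σ γ eσ eγ, Finset.mul_sum]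
    rw [Finset.sum_comm]
    refine Finset.sum_congr rfl fun a' _ => Finset.sum_congr rfl fun k _ => ?_
    ring
  have q2 : ∀ J b, φ ((LRing.frameData P R).Q₂ J b) = ∑ b', Φ (R.l₂.1 b b') * v2 P y γ J b' :=
    fun J b => Q2_eq P R Φ γ φ q1 (fun κ b => rfl) J b
  have q2' : ∀ J b, ψ ((LRing.frameData P R).Q₂ J b) = ∑ b', Φ (R.l₂.1 b b') * v2 P y γ' J b' :=
    fun J b => Q2_eq P R Φ γ' ψ q1' (fun κ b => hm.μ κ b) J b
  have i1 : ∀ a, φ ((LRing.frameData P R).ι a) = γ (G.t a) := fun a => rfl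
  have i1' : ∀ a, ψ ((LRing.frameData P R).ι a) = γ' (G.t a) := by
    intro a
    have h1 := congrArg (fun f : A →+* T => f a) hm.ι
    have h2 := congrArg (fun f : A →+* T => f a) (G.comp_t σ γ eσ)
    exact h1.trans h2.symm
  refine ⟨fun a => ?_, fun l b => ?_, fun j a b => ?_⟩
  · rw [q1, q1']
    exact Finset.sum_congr rfl fun a' _ => by rw [vv_j0 P y γ' γ eγ' eγ a']
  · simp only [map_sum, map_mul, i1, i1', q2, q2', Finset.mul_sum]
    rw [Finset.sum_comm, Finset.sum_comm (s := Finset.univ (α := Fin m → Fin X.n))]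
    refine Finset.sum_congr rfl fun b' _ => ?_
    have := inv_t P y γ' γ eγ' eγ (tx l) (xx l) (htx l) b'
    have e : ∀ γ₁ : Γ →+* T, ∑ J, γ₁ (G.t (tx l J)) * (Φ (R.l₂.1 b b') * v2 P y γ₁ J b') =
        Φ (R.l₂.1 b b') * ∑ J, γ₁ (G.t (tx l J)) * v2 P y γ₁ J b' := by
      intro γ₁
      rw [Finset.mul_sum]
      refine Finset.sum_congr rfl fun J _ => ?_
      ring
    rw [e, e, this]
  · have e : ∀ γ₁ : Γ →+* T, ∑ k, ∑ J, γ₁ (G.t (ig k j J)) * (∑ a', Φ (R.l₁.1 a a') * vv P y γ₁ k a') *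
        (∑ b', Φ (R.l₂.1 b b') * v2 P y γ₁ J b') = ∑ a', ∑ b', Φ (R.l₁.1 a a') * Φ (R.l₂.1 b b') *
          ∑ k, ∑ J, γ₁ (G.t (ig k j J)) * vv P y γ₁ k a' * v2 P y γ₁ J b' := by
      intro γ₁
      simp only [Finset.mul_sum, Finset.sum_mul]
      calc _ = ∑ k, ∑ a', ∑ b', ∑ J, Φ (R.l₁.1 a a') * Φ (R.l₂.1 b b') *
            (γ₁ (G.t (ig k j J)) * vv P y γ₁ k a' * v2 P y γ₁ J b') := by
            refine Finset.sum_congr rfl fun k _ => ?_
            calc _ = ∑ J, ∑ a', ∑ b', Φ (R.l₁.1 a a') * Φ (R.l₂.1 b b') *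
                  (γ₁ (G.t (ig k j J)) * vv P y γ₁ k a' * v2 P y γ₁ J b') := by
                  refine Finset.sum_congr rfl fun J _ => ?_
                  rw [Finset.sum_comm]
                  refine Finset.sum_congr rfl fun a' _ => Finset.sum_congr rfl fun b' _ => ?_
                  ring
              _ = _ := by
                  rw [Finset.sum_comm]
                  refine Finset.sum_congr rfl fun a' _ => ?_
                  rw [Finset.sum_comm]
        _ = _ := by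
            rw [Finset.sum_comm]
            refine Finset.sum_congr rfl fun a' _ => ?_
            rw [Finset.sum_comm]
    simp only [map_sum, map_mul, i1, i1', q1, q1', q2, q2']
    rw [e, e]
    refine Finset.sum_congr rfl fun a' _ => Finset.sum_congr rfl fun b' _ => ?_
    rw [inv_i P y γ' γ eγ' eγ j (fun k => ig k j) (fun k => hig k j) a' b']

/-- two maps which agree on the generators -/
theorem frame_ext {T : Type u} [CommRing T] {ψ ψ' : (LRing.frameData P R).D →+* T}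
    (hι : ψ.comp (LRing.frameData P R).ι = ψ'.comp (LRing.frameData P R).ι)
    (hQ : ∀ j a, ψ ((LRing.frameData P R).Q₁ j a) = ψ' ((LRing.frameData P R).Q₁ j a))
    (hμ : ∀ κ b, ψ ((LRing.frameData P R).μ κ b) = ψ' ((LRing.frameData P R).μ κ b)) : ψ = ψ' := by
  refine RingHom.eq_of_eqOn_set_dense (LRing.frameData P R).gen ?_
  rintro _ ((⟨a, rfl⟩ | ⟨p, rfl⟩) | ⟨p, rfl⟩)
  · exact RingHom.congr_fun hι a
  · exact hQ _ _
  · exact hμ _ _

/-- the identities for all points -/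
theorem main (hs : G.s.Flat) (q : ℕ) (xx : Fin q → A) (tx : Fin q → (Fin m → Fin X.n) → A)
    (ig : Fin X.n → Fin X.n → (Fin m → Fin X.n) → A) (htx : ∀ l, G.t (xx l) = ∑ J, G.s (tx l J) * X.mon J)
    (hig : ∀ k j, G.i (X.c k j) = ∑ J, G.s (ig k j J) * X.mon J)
    (hact : ∀ {T : Type u} [CommRing T] (σ : Γ →+* T) (φ : (LRing.frameData P R).D →+* T),
      σ.comp G.s = φ.comp (LRing.frameData P R).ι → ∃ ψ : (LRing.frameData P R).D →+* T, Moves P R σ φ ψ)
    {T : Type u} [CommRing T] (σ : Γ →+* T)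
    (φ ψ : (LRing.frameData P R).D →+* T) (hm : Moves P R σ φ ψ) : InvEq P R q xx tx ig φ ψ := by
  let FD := LRing.frameData P R
  obtain ⟨ψ₀, h₀⟩ := hact (K111.PR.h G.s FD.ι) (K111.PR.φ G.s FD.ι) (K111.PR.comm G.s FD.ι)
  set f := K111.PR.lift φ σ hm.src with hf
  have b1 : f.comp (K111.PR.φ G.s FD.ι) = φ := K111.PR.lift_φ φ σ hm.src
  have b2 : f.comp (K111.PR.h G.s FD.ι) = σ := K111.PR.lift_h φ σ hm.src
  have b3 : f.comp ψ₀ = ψ := by
    apply frame_ext P R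
    · rw [RingHom.comp_assoc, h₀.ι, hm.ι, ← b2, RingHom.comp_assoc]
    · intro j a
      rw [RingHom.comp_apply, h₀.Q₁, hm.Q₁, map_sum]
      refine Finset.sum_congr rfl fun k _ => ?_
      rw [map_mul, ← RingHom.comp_apply f, b2, ← RingHom.comp_apply f, b1]
    · intro κ b
      rw [RingHom.comp_apply, h₀.μ, hm.μ, ← RingHom.comp_apply f, b1]
  let j : FD.D →+* R.L := (LRing.DL P R).subtype
  have hj : Function.Injective j := Subtype.val_injective
  have hinj := K111.PR.map_injective (s := G.s) (ι := FD.ι) j hs hj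
  have c1 : (K111.PR.map (s := G.s) (ι := FD.ι) j).comp (K111.PR.φ G.s FD.ι) = (K111.PR.φ G.s (j.comp FD.ι)).comp j :=
    K111.PR.lift_φ _ _ _
  have c2 : (K111.PR.map (s := G.s) (ι := FD.ι) j).comp (K111.PR.h G.s FD.ι) = K111.PR.h G.s (j.comp FD.ι) :=
    K111.PR.lift_h _ _ _
  have h1 : Moves P R (K111.PR.h G.s (j.comp FD.ι)) ((K111.PR.φ G.s (j.comp FD.ι)).comp (LRing.DL P R).subtype)
      ((K111.PR.map (s := G.s) (ι := FD.ι) j).comp ψ₀) := by
    refine ⟨K111.PR.comm G.s (j.comp FD.ι), ?_, ?_, ?_⟩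
    · rw [RingHom.comp_assoc, h₀.ι, ← c2, RingHom.comp_assoc]
    · intro i a
      rw [RingHom.comp_apply, h₀.Q₁, map_sum]
      refine Finset.sum_congr rfl fun k _ => ?_
      rw [map_mul, ← RingHom.comp_apply (K111.PR.map j), c2, ← RingHom.comp_apply (K111.PR.map j), c1]
    · intro κ b
      rw [RingHom.comp_apply, h₀.μ, ← RingHom.comp_apply (K111.PR.map j), c1]
  have h2 := core P R q xx tx ig htx hig _ _ _ h1
  have h3 : ∀ d : FD.D, ((K111.PR.map (s := G.s) (ι := FD.ι) j).comp ψ₀) d =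
      ((K111.PR.φ G.s (j.comp FD.ι)).comp (LRing.DL P R).subtype) d → ψ d = φ d := by
    intro d hd
    have h4 : ψ₀ d = K111.PR.φ G.s FD.ι d := by
      apply hinj
      have := RingHom.congr_fun c1 d
      exact hd.trans this.symm
    rw [← b3, ← b1, RingHom.comp_apply, RingHom.comp_apply, h4]
  exact ⟨fun a => h3 _ (h2.one a), fun l b => h3 _ (h2.tx l b), fun i a b => h3 _ (h2.ig i a b)⟩

end core

/-- **F8** -/
theorem stmtThetaInv : K743.StmtThetaInv.{u} := by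
  intro Lb A B _ _ _ _ G D K _ x P R hs F hF
  obtain ⟨F0, P1, P2, P4, act, act_ι, act_Q₁, act_μ, act_id, act_comp⟩ := F
  simp only at hF
  subst hF
  intro T _ σ φ h
  have hact : ∀ {T : Type u} [CommRing T] (σ : B →+* T) (φ : (LRing.frameData P R).D →+* T)
      (h : σ.comp G.s = φ.comp (LRing.frameData P R).ι), Moves P R σ φ (act σ φ h) := fun σ φ h =>
    ⟨h, act_ι σ φ h, act_Q₁ σ φ h, act_μ σ φ h⟩
  have := main P R hs D.q D.x D.tx D.ig D.t_x D.i_g (fun σ φ h => ⟨_, hact σ φ h⟩) σ φ _ (hact σ φ h)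
  exact ⟨this.one, this.tx, this.ig⟩

end Groth.Agent.ResProp.EF.K394
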